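import Mathlib
import Groth.Agent.Var76.RegKaehler
import Groth.Agent.EGA4Alg4.IntegralDim

set_option autoImplicit false
set_option maxHeartbeats 400000
set_option backward.isDefEq.respectTransparency.types false
universe u

open scoped TensorProduct
open IsLocalRing

/-!
# Generators of the differentials from geometric embedding dimensions
-/

namespace Groth.Agent.H98Kaehler

/-- At a rational maximal ideal the differentials of the fibre are bounded by the cotangent space. -/
theorem finrank_fibre_le {L B : Type u} [Field L] [IsAlgClosed L] [CommRing B] [Algebra L B]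
    [Algebra.FiniteType L B] (q : Ideal B) [q.IsMaximal] :
    letI := Ideal.Quotient.field q
    Module.finrank (B ⧸ q) ((B ⧸ q) ⊗[B] Ω[B⁄L]) ≤ Module.finrank (B ⧸ q) q.Cotangent := by
  classical
  letI := Ideal.Quotient.field q
  haveI : IsNoetherianRing B := Algebra.FiniteType.isNoetherianRing L B
  haveI : Module.Finite B q.Cotangent :=
    Module.Finite.of_surjective q.toCotangent (Ideal.toCotangent_surjective q)
  haveI : Module.Finite (B ⧸ q) q.Cotangent := Module.Finite.of_restrictScalars_finite B _ _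
  haveI : Module.Finite L (B ⧸ q) := finite_of_finite_type_of_isJacobsonRing L (B ⧸ q)
  have hbij : Function.Bijective (algebraMap L (B ⧸ q)) := IsAlgClosed.algebraMap_bijective_of_isIntegral
  let b := Module.finBasis (B ⧸ q) q.Cotangent
  choose a ha using fun i => Ideal.toCotangent_surjective q (b i)
  let T : Submodule B (Ω[B⁄L]) :=
    Submodule.span B (Set.range fun i => KaehlerDifferential.D L B (a i).1)
  have hkey : ∀ x ∈ q, KaehlerDifferential.D L B x ∈ T ⊔ q • ⊤ := by
    intro x hx
    have hspan : q.toCotangent ⟨x, hx⟩ ∈ Submodule.span (B ⧸ q) (Set.range b) := by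
      rw [b.span_eq]; trivial
    rw [show Set.range b = Set.range fun i => q.toCotangent (a i) from by simp only [ha],
      Submodule.mem_span_range_iff_exists_fun] at hspan
    obtain ⟨c, hc⟩ := hspan
    choose c' hc' using fun i => Ideal.Quotient.mk_surjective (c i)
    have hsq : x - ∑ i, c' i * (a i).1 ∈ q ^ 2 := by
      have : q.toCotangent ⟨x, hx⟩ = q.toCotangent (∑ i, c' i • a i) := by
        rw [← hc, map_sum]
        refine Finset.sum_congr rfl fun i _ => ?_
        rw [map_smul, ← hc' i]
        exact algebraMap_smul (B ⧸ q) (c' i) _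
      rw [Ideal.toCotangent_eq] at this
      simpa using this
    have hD2 : ∀ y ∈ q ^ 2, KaehlerDifferential.D L B y ∈ q • (⊤ : Submodule B (Ω[B⁄L])) := by
      intro y hy
      rw [pow_two] at hy
      refine Submodule.mul_induction_on hy (fun s hs t ht => ?_) (fun s t hs ht => ?_)
      · rw [Derivation.leibniz]
        exact add_mem (Submodule.smul_mem_smul hs trivial) (Submodule.smul_mem_smul ht trivial)
      · rw [map_add]; exact add_mem hs ht
    have hx' : x = (x - ∑ i, c' i * (a i).1) + ∑ i, c' i * (a i).1 := by ring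
    rw [hx', map_add, map_sum]
    refine add_mem (Submodule.mem_sup_right (hD2 _ hsq)) (Submodule.sum_mem _ fun i _ => ?_)
    rw [Derivation.leibniz]
    exact add_mem (Submodule.mem_sup_left (Submodule.smul_mem _ _ (Submodule.subset_span ⟨i, rfl⟩)))
      (Submodule.mem_sup_right (Submodule.smul_mem_smul (a i).2 trivial))
  have htop : T ⊔ q • ⊤ = ⊤ := by
    rw [eq_top_iff, ← KaehlerDifferential.span_range_derivation, Submodule.span_le]
    rintro _ ⟨x, rfl⟩
    obtain ⟨c, hc⟩ := hbij.2 (Ideal.Quotient.mk q x)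
    have hmem : x - algebraMap L B c ∈ q := by
      rw [← Ideal.Quotient.eq, Ideal.Quotient.mk_algebraMap]
      exact hc.symm
    rw [KaehlerDifferential.span_range_derivation]
    have := hkey _ hmem
    rwa [map_sub, Derivation.map_algebraMap, sub_zero] at this
  have hone : Submodule.span (B ⧸ q)
      (Set.range fun i => (1 : B ⧸ q) ⊗ₜ[B] KaehlerDifferential.D L B (a i).1) = ⊤ := by
    rw [eq_top_iff]
    rintro z -
    induction z with
    | zero => exact zero_mem _
    | add y z hy hz => exact add_mem hy hz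
    | tmul r ω =>
      rw [show r ⊗ₜ[B] ω = r • ((1 : B ⧸ q) ⊗ₜ[B] ω) from by rw [TensorProduct.smul_tmul', smul_eq_mul, mul_one]]
      refine Submodule.smul_mem _ _ ?_
      have hω : ω ∈ T ⊔ q • ⊤ := by rw [htop]; trivial
      obtain ⟨t, ht, s, hs, rfl⟩ := Submodule.mem_sup.mp hω
      rw [TensorProduct.tmul_add]
      refine add_mem ?_ ?_
      · clear hω
        induction ht using Submodule.span_induction with
        | mem y hy => obtain ⟨i, rfl⟩ := hy; exact Submodule.subset_span ⟨i, rfl⟩
        | zero => rw [TensorProduct.tmul_zero]; exact zero_mem _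
        | add y z _ _ hy hz => rw [TensorProduct.tmul_add]; exact add_mem hy hz
        | smul c y _ hy =>
          rw [TensorProduct.tmul_smul]
          exact Submodule.smul_of_tower_mem _ c hy
      · refine Submodule.smul_induction_on hs (fun c hc y _ => ?_) (fun y z hy hz => ?_)
        · rw [← TensorProduct.smul_tmul, Algebra.smul_def, Ideal.Quotient.algebraMap_eq,
            Ideal.Quotient.eq_zero_iff_mem.mpr hc, zero_mul, TensorProduct.zero_tmul]
          exact zero_mem _
        · rw [TensorProduct.tmul_add]; exact add_mem hy hz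
  refine le_trans (le_of_eq ?_) ((finrank_range_le_card (R := B ⧸ q)
    (b := fun i => (1 : B ⧸ q) ⊗ₜ[B] KaehlerDifferential.D L B (a i).1)).trans_eq (Fintype.card_fin _))
  rw [Set.finrank, hone, finrank_top]

/-- A finite module is generated near a maximal ideal by as many elements as its fibre needs. -/
theorem exists_span_localized {A : Type u} [CommRing A] {M : Type u} [AddCommGroup M] [Module A M]
    [Module.Finite A M] (m p : Ideal A) [m.IsMaximal] [p.IsPrime] (hpm : p ≤ m) (n : ℕ)
    (h : letI := Ideal.Quotient.field m; Module.finrank (A ⧸ m) ((A ⧸ m) ⊗[A] M) ≤ n) :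
    ∃ s : Finset (LocalizedModule p.primeCompl M), s.card ≤ n ∧
      Submodule.span (Localization.AtPrime p) (s : Set (LocalizedModule p.primeCompl M)) = ⊤ := by
  classical
  letI := Ideal.Quotient.field m
  let b := Module.finBasis (A ⧸ m) ((A ⧸ m) ⊗[A] M)
  have hsur : Function.Surjective fun x : M => (1 : A ⧸ m) ⊗ₜ[A] x := by
    intro z
    induction z with
    | zero => exact ⟨0, TensorProduct.tmul_zero _ _⟩
    | add y z hy hz =>
      obtain ⟨y', hy'⟩ := hy
      obtain ⟨z', hz'⟩ := hz
      exact ⟨y' + z', by simp only [TensorProduct.tmul_add] at *; rw [hy', hz']⟩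
    | tmul r ω =>
      obtain ⟨r', rfl⟩ := Ideal.Quotient.mk_surjective r
      exact ⟨r' • ω, by
        change (1 : A ⧸ m) ⊗ₜ[A] (r' • ω) = _
        rw [← TensorProduct.smul_tmul, Algebra.smul_def, mul_one, Ideal.Quotient.algebraMap_eq]⟩
  choose x hx using fun i => hsur (b i)
  let N : Submodule A M := Submodule.span A (Set.range x)
  have hN : (⊤ : Submodule A M) ≤ N ⊔ m • ⊤ := by
    intro ω _
    obtain ⟨c, hc⟩ : ∃ c : Fin _ → A ⧸ m, ∑ i, c i • b i = (1 : A ⧸ m) ⊗ₜ[A] ω :=
      ⟨_, b.sum_repr _⟩
    choose c' hc' using fun i => Ideal.Quotient.mk_surjective (c i)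
    have h0 : (1 : A ⧸ m) ⊗ₜ[A] (ω - ∑ i, c' i • x i) = 0 := by
      rw [TensorProduct.tmul_sub, TensorProduct.tmul_sum, ← hc, sub_eq_zero]
      refine Finset.sum_congr rfl fun i _ => ?_
      rw [← hx i, ← hc' i, TensorProduct.tmul_smul]
      exact algebraMap_smul (A ⧸ m) (c' i) _
    have h1 : Submodule.Quotient.mk (ω - ∑ i, c' i • x i) = (0 : M ⧸ (m • ⊤ : Submodule A M)) := by
      have := congrArg (TensorProduct.quotTensorEquivQuotSMul M m) h0
      rwa [map_zero, show (1 : A ⧸ m) = Ideal.Quotient.mk m 1 from rfl,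
        TensorProduct.quotTensorEquivQuotSMul_mk_tmul, one_smul] at this
    rw [Submodule.Quotient.mk_eq_zero] at h1
    have e : ω = ∑ i, c' i • x i + (ω - ∑ i, c' i • x i) := by abel
    rw [e]
    exact add_mem (Submodule.mem_sup_left (Submodule.sum_mem _ fun i _ =>
      Submodule.smul_mem _ _ (Submodule.subset_span ⟨i, rfl⟩))) (Submodule.mem_sup_right h1)
  have hQ : (⊤ : Submodule A (M ⧸ N)) ≤ m • ⊤ := by
    intro z _
    obtain ⟨ω, rfl⟩ := Submodule.mkQ_surjective N z
    obtain ⟨n₁, hn₁, n₂, hn₂, rfl⟩ := Submodule.mem_sup.mp (hN (trivial : ω ∈ ⊤))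
    rw [map_add, (Submodule.Quotient.mk_eq_zero _).mpr hn₁ |> fun h => (show N.mkQ n₁ = 0 from h), zero_add]
    have hle : (m • ⊤ : Submodule A M).map N.mkQ ≤ m • ⊤ := by
      rw [Submodule.map_smul'']; exact Submodule.smul_mono le_rfl le_top
    exact hle ⟨n₂, hn₂, rfl⟩
  obtain ⟨r, hr, hrQ⟩ :=
    Submodule.exists_sub_one_mem_and_smul_eq_zero_of_fg_of_le_smul m ⊤ Module.Finite.fg_top hQ
  have hrp : r ∈ p.primeCompl := fun hr' => (Ideal.IsMaximal.ne_top ‹_›)
    ((Ideal.eq_top_iff_one m).mpr (by simpa using sub_mem (hpm hr') hr))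
  refine ⟨Finset.univ.image fun i => LocalizedModule.mkLinearMap p.primeCompl M (x i),
    Finset.card_image_le.trans (by simpa using h), ?_⟩
  rw [eq_top_iff]
  intro z _
  induction z using LocalizedModule.induction_on with
  | h ω t =>
    have hω : r • ω ∈ N := by
      rw [← Submodule.Quotient.mk_eq_zero, Submodule.Quotient.mk_smul]
      exact hrQ _ trivial
    have e : LocalizedModule.mk ω t = (IsLocalization.mk' (Localization.AtPrime p) (1 : A) (t * ⟨r, hrp⟩)) •
        LocalizedModule.mkLinearMap p.primeCompl M (r • ω) := by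
      rw [LocalizedModule.mkLinearMap_apply, ← Localization.mk_eq_mk', LocalizedModule.mk_smul_mk]
      refine LocalizedModule.mk_eq.mpr ⟨1, ?_⟩
      simp only [Submonoid.smul_def, one_smul, mul_one, OneMemClass.coe_one, Submonoid.coe_mul, smul_smul]
      simp only [one_mul]
    rw [e]
    refine Submodule.smul_mem _ _ ?_
    have hle : N.map (LocalizedModule.mkLinearMap p.primeCompl M) ≤
        (Submodule.span (Localization.AtPrime p)
          ((Finset.univ.image fun i => LocalizedModule.mkLinearMap p.primeCompl M (x i) : Finset _) :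
            Set (LocalizedModule p.primeCompl M))).restrictScalars A := by
      rw [Submodule.map_span, Submodule.span_le]
      rintro _ ⟨_, ⟨i, rfl⟩, rfl⟩
      exact Submodule.subset_span (by simp)
    exact hle ⟨_, hω, rfl⟩

/-- The fibre of the differentials is bounded by the geometric cotangent space. -/
theorem finrank_fibre_le_of_geometric {K L A : Type u} [Field K] [Field L] [IsAlgClosed L] [Algebra K L]
    [CommRing A] [Algebra K A] [Algebra.FiniteType K A] (m : Ideal A) [m.IsMaximal]
    (q : Ideal (L ⊗[K] A)) [q.IsMaximal]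
    (hq : q.comap (Algebra.TensorProduct.includeRight : A →ₐ[K] L ⊗[K] A) = m) :
    letI := Ideal.Quotient.field m; letI := Ideal.Quotient.field q
    Module.finrank (A ⧸ m) ((A ⧸ m) ⊗[A] Ω[A⁄K]) ≤
      Module.finrank ((L ⊗[K] A) ⧸ q) q.Cotangent := by
  letI := Ideal.Quotient.field m
  letI := Ideal.Quotient.field q
  letI : Algebra A (L ⊗[K] A) := Algebra.TensorProduct.rightAlgebra
  haveI : q.LiesOver m := ⟨hq.symm⟩
  haveI hft : Algebra.FiniteType L (L ⊗[K] A) := inferInstance
  refine le_trans (le_of_eq ?_) (finrank_fibre_le (L := L) q)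
  let e1 := LinearEquiv.baseChange (L ⊗[K] A) ((L ⊗[K] A) ⧸ q) _ _
    (KaehlerDifferential.tensorKaehlerEquiv K L A (L ⊗[K] A))
  let e2 := TensorProduct.AlgebraTensorModule.cancelBaseChange A (L ⊗[K] A) ((L ⊗[K] A) ⧸ q)
    ((L ⊗[K] A) ⧸ q) (Ω[A⁄K])
  let e3 := TensorProduct.AlgebraTensorModule.cancelBaseChange A (A ⧸ m) ((L ⊗[K] A) ⧸ q)
    ((L ⊗[K] A) ⧸ q) (Ω[A⁄K])
  rw [← Module.finrank_baseChange (R := ((L ⊗[K] A) ⧸ q)) (S := A ⧸ m)]
  exact (e3.trans (e2.symm.trans e1)).finrank_eq

end Groth.Agent.H98Kaehler
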